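import Groth.Agent.Lib.RelPCS4.ThickTor
import Groth.Agent.Lib.DPerf.Top
import Groth.Agent.Lib.ModM1.LocFree
import Groth.Agent.Lib.DGen9.RelAmpBC
import Mathlib.RingTheory.Flat.EquationalCriterion

/-! # Finite presentation lifts along thickenings of the base -/

set_option autoImplicit false
set_option linter.style.haveILetI false
set_option backward.isDefEq.respectTransparency false

universe u

open CategoryTheory Limits AlgebraicGeometry TopologicalSpace

attribute [local instance] HasDerivedCategory.standard

namespace Groth.Agent.ThickFP9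

open RelPCS4 KFlat.Sch

/-- Tor vanishing: a relation in `J P` among the generators of a flat module comes from `J N`. -/
theorem mem_map_smul_top {A B : Type u} [CommRing A] [CommRing B] [Algebra A B] {N P M : Type u}
    [AddCommGroup N] [AddCommGroup P] [AddCommGroup M] [Module B N] [Module B P] [Module B M] [Module A M]
    [IsScalarTower A B M] [Module.Flat A M] (J : Ideal A) (ι : N →ₗ[B] P) (π : P →ₗ[B] M)
    (hι : Function.Injective ι) (hπ : Function.Surjective π) (hex : ∀ p, π p = 0 → ∃ n, ι n = p)
    (hw : ∀ n, π (ι n) = 0) (z : N) (hz : ι z ∈ J.map (algebraMap A B) • (⊤ : Submodule B P)) :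
    z ∈ J.map (algebraMap A B) • (⊤ : Submodule B N) := by
  rw [Ideal.map, Ideal.span, ← Submodule.span_univ, Submodule.span_smul_span, Submodule.mem_span_set'] at hz
  obtain ⟨n, c, g, hg⟩ := hz
  choose b hb p hp hbp using fun i => Set.mem_smul.1 (g i).2
  choose a ha hab using hb
  let v : Fin n → P := fun i => c i • p i
  have hzv : ∑ i, algebraMap A B (a i) • v i = ι z := by
    rw [← hg]
    refine Finset.sum_congr rfl fun i _ => ?_
    rw [show (g i : P) = b i • p i from (hbp i).symm, hab, smul_comm]
  have hrel : ∑ i, a i • π (v i) = 0 := by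
    rw [← hw z, ← hzv, map_sum]
    exact Finset.sum_congr rfl fun i _ => ((π.map_smul (algebraMap A B (a i)) (v i)).trans (algebraMap_smul B (a i) (π (v i)))).symm
  obtain ⟨k, m, y, hx, hf⟩ := Module.Flat.isTrivialRelation_of_sum_smul_eq_zero hrel
  choose Y hY using fun l => hπ (y l)
  choose w hw' using fun i => hex (v i - ∑ l, algebraMap A B (m i l) • Y l) (by
    rw [map_sub, map_sum, sub_eq_zero]
    refine (hx i).trans ?_
    exact Finset.sum_congr rfl fun l _ =>
      (((π.map_smul (algebraMap A B (m i l)) (Y l)).trans (algebraMap_smul B (m i l) (π (Y l)))).trans (by rw [hY])).symm)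
  have hzw : z = ∑ i, algebraMap A B (a i) • w i := hι (by
    rw [map_sum]
    simp only [map_smul, hw', smul_sub, Finset.sum_sub_distrib, Finset.smul_sum, smul_smul, ← map_mul]
    rw [Finset.sum_comm (f := fun i l => algebraMap A B (a i * m i l) • Y l)]
    simp only [← Finset.sum_smul, ← map_sum, hf, map_zero, zero_smul, Finset.sum_const_zero, sub_zero]
    exact hzv.symm)
  rw [hzw]
  exact sum_mem fun i _ => Submodule.smul_mem_smul (Ideal.mem_map_of_mem _ (ha i)) trivial

variable {X X' T T' : Scheme.{u}} {i : X ⟶ X'} {q : X ⟶ T} {q' : X' ⟶ T'} {t : T ⟶ T'} {n : ℕ}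

/-- Inverse image to a thickening is injective on the kernel of an epimorphism onto a flat module. -/
theorem mono_pullback_map (hsq : IsPullback i q q' t) (ht : Thick.IsThick t n) {F : X'.Modules}
    (hF : FlatMod.IsFlatOver q' F) {P : X'.Modules} (π : P ⟶ F) [Epi π] :
    Mono ((Scheme.Modules.pullback i).map (kernel.ι π)) := by
  haveI := ht.closed
  haveI : IsClosedImmersion i := MorphismProperty.of_isPullback (P := @IsClosedImmersion) hsq.flip ‹_›
  refine (M1.mono_iff_stalk _).2 fun x => (injective_iff_map_eq_zero _).2 fun w hw => ?_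
  have hS : (ShortComplex.mk (kernel.ι π) π (kernel.condition π)).Exact :=
    ShortComplex.exact_of_f_is_kernel _ (kernelIsKernel π)
  -- stalk unit is surjective
  have hsurj : ∀ (M : X'.Modules) (w : (((Scheme.Modules.pullback i).obj M).presheaf.stalk x : Type u)),
      ∃ m, M2.stalkUnit i x M m = w := by
    intro M w
    obtain ⟨t', rfl⟩ := (M2.pullStalkEquiv i x M).surjective w
    induction t' using TensorProduct.induction_on with
    | zero => exact ⟨0, (map_zero (M2.stalkUnit i x M)).trans (map_zero (M2.pullStalkEquiv i x M)).symm⟩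
    | tmul s m =>
      obtain ⟨r, rfl⟩ := i.stalkMap_surjective x s
      refine ⟨r • m, ?_⟩
      refine (LinearMap.liftBaseChange_one_tmul (X.presheaf.stalk x) (M2.stalkUnit i x M) _).symm.trans ?_
      refine congrArg (M2.pullStalkEquiv i x M) ?_
      rw [TensorProduct.tmul_smul, TensorProduct.smul_tmul']
      exact congrArg (· ⊗ₜ m) ((Algebra.smul_def _ _).trans (mul_one _))
    | add a b ha hb =>
      obtain ⟨p, hp⟩ := ha
      obtain ⟨q, hq⟩ := hb
      exact ⟨p + q, (map_add (M2.stalkUnit i x M) p q).trans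
        ((congrArg₂ (· + ·) hp hq).trans (map_add (M2.pullStalkEquiv i x M) a b).symm)⟩
  obtain ⟨z, rfl⟩ := hsurj _ w
  replace hw := (ThickTor.stalkUnit_natural i x (kernel.ι π) z).symm.trans hw
  letI : Algebra (T'.presheaf.stalk (q' (i x))) (X'.presheaf.stalk (i x)) := (q'.stalkMap (i x)).hom.toAlgebra
  letI := FlatMod.moduleStalkOver q' F (i x)
  haveI : IsScalarTower (T'.presheaf.stalk (q' (i x))) (X'.presheaf.stalk (i x)) (F.presheaf.stalk (i x) : Type u) :=
    IsScalarTower.of_algebraMap_smul fun _ _ => rfl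
  haveI : Module.Flat (T'.presheaf.stalk (q' (i x))) (F.presheaf.stalk (i x) : Type u) := hF (i x)
  have hm : stk (kernel.ι π) (i x) z ∈ (RingHom.ker (ThickTor.base hsq x).hom).map (q'.stalkMap (i x)).hom •
      (⊤ : Submodule (X'.presheaf.stalk (i x)) (P.presheaf.stalk (i x) : Type u)) := by
    refine Submodule.smul_mono_left (ThickTor.ker_stalkMap_le_map_base hsq x) ?_
    refine FormalH7.tmul_one_eq_zero_mem (S := X.presheaf.stalk x) (i.stalkMap_surjective x) _
      ((M2.pullStalkEquiv i x P).injective ?_)
    rw [map_zero]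
    exact (LinearMap.liftBaseChange_one_tmul (X.presheaf.stalk x) (M2.stalkUnit i x P) _).trans hw
  have hz := mem_map_smul_top (RingHom.ker (ThickTor.base hsq x).hom) (stk (kernel.ι π) (i x)) (stk π (i x))
    ((M1.mono_iff_stalk (kernel.ι π)).1 inferInstance (i x)) ((M1.epi_iff_stalk π).1 inferInstance (i x))
    (fun p hp => M1.exact_elem hS (i x) p hp)
    (fun m => (M1.stalk_comp_apply (kernel.ι π) π (i x) m).symm.trans (by rw [kernel.condition]; exact M1.stalkAb_map_zero _ _))
    z hm
  refine Submodule.smul_induction_on (p := fun m => M2.stalkUnit i x (kernel π) m = 0) hz (fun r hr m _ => ?_)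
    fun a b ha hb => by rw [map_add, ha, hb, add_zero]
  rw [map_smul]
  refine (algebraMap_smul (X.presheaf.stalk x) r _).symm.trans ?_
  suffices (i.stalkMap x).hom r = 0 by
    rw [show algebraMap (X'.presheaf.stalk (i x)) (X.presheaf.stalk x) r = 0 from this, zero_smul]
  have hle : (RingHom.ker (ThickTor.base hsq x).hom).map (q'.stalkMap (i x)).hom ≤ RingHom.ker (i.stalkMap x).hom := by
    rw [Ideal.map_le_iff_le_comap]
    intro a ha
    have := congrArg (fun φ => φ.hom a) (ThickTor.base_comm hsq x)
    simp only [CommRingCat.hom_comp, RingHom.comp_apply] at this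
    rw [Ideal.mem_comap, RingHom.mem_ker, this, RingHom.mem_ker.1 ha, map_zero]
  exact hle hr

/-- A generated module, flat over the base, is finitely presented if its restriction is. -/
theorem isFP_of_generated (hsq : IsPullback i q q' t) (ht : Thick.IsThick t n) {F : X'.Modules}
    (hF : FlatMod.IsFlatOver q' F) {J : Type u} [Finite J] (π : M1.fr J ⟶ F) [Epi π]
    (h : CohB1.IsFP ((Scheme.Modules.pullback i).obj F)) : CohB1.IsFP F := by
  haveI hc := ht.closed
  have hi := ThickTor.isThick_of_base ht hsq
  obtain ⟨eJ⟩ := M1.nonempty_fr_freeMod X' J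
  have hfr : CohB1.IsFP (M1.fr J : X'.Modules) :=
    M1.isFP_of_isIso eJ.symm (M1.isFP_of_isFinLocFree (KFlat.Sch.isFinLocFree_freeMod X' _))
  haveI : PreservesColimitsOfSize.{0, 0} (Scheme.Modules.pullback i) :=
    (Scheme.Modules.pullbackPushforwardAdjunction i).leftAdjoint_preservesColimits
  let S := ShortComplex.mk (kernel.ι π) π (kernel.condition π)
  have hS : S.Exact := ShortComplex.exact_of_f_is_kernel _ (kernelIsKernel π)
  haveI := mono_pullback_map hsq ht hF π
  haveI : Epi ((Scheme.Modules.pullback i).map π) := inferInstance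
  have hT : (S.map (Scheme.Modules.pullback i)).ShortExact :=
    { exact := ShortComplex.exact_of_g_is_cokernel _
        (isColimitCoforkMapOfIsColimit' (Scheme.Modules.pullback i) S.zero hS.gIsCokernel)
      mono_f := ‹_›
      epi_g := ‹_› }
  have hK : CohB1.IsFT (kernel π) := Thick.isFT_of_pullback hi _ (M1.isFT_of_isIso
    (IsLimit.conePointUniqueUpToIso (kernelIsKernel _) hT.fIsKernel)
    (M1.isFT_kernel (M1.isFP_isFT (M1.isFP_pullback i hfr)) h ((Scheme.Modules.pullback i).map π)))
  choose U hxU σ hσ using (M1.isFT_iff_generators _).1 hK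
  refine M1.isFP_of_openImmersion_cover (fun x => (U x).ι)
    (fun x => ⟨x, by rw [Scheme.Opens.range_ι]; exact hxU x⟩) fun x => ?_
  let R := Scheme.Modules.restrictFunctor (U x).ι
  haveI := hσ x
  haveI : Epi (σ x).π := (σ x).epi
  have hR : (S.map R).ShortExact := by
    exact ({ exact := hS, mono_f := inferInstanceAs (Mono (kernel.ι π)), epi_g := ‹Epi π› } : S.ShortExact).map_of_exact R
  haveI := hR.epi_g
  exact M1.isFP_of_isIso
    (cokernelEpiComp ((σ x).π : M1.fr (σ x).I ⟶ R.obj (kernel π)) (R.map (kernel.ι π)) ≪≫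
      IsColimit.coconePointUniqueUpToIso (cokernelIsCokernel _) hR.gIsCokernel)
    (DPerf.isFP_cokernel (M1.isQCoh_fr _ _) (M1.isFT_fr _ _) (M1.isFP_restrict hfr (U x).ι) _)

/-- Finite presentation along a thickening of the base. -/
theorem isFP_iff_pullback (hsq : IsPullback i q q' t) (ht : Thick.IsThick t n) {F : X'.Modules}
    (hF : FlatMod.IsFlatOver q' F) :
    CohB1.IsFP F ↔ CohB1.IsFP ((Scheme.Modules.pullback i).obj F) := by
  refine ⟨M1.isFP_pullback i, fun h => ?_⟩
  have hi := ThickTor.isThick_of_base ht hsq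
  choose U hxU σ hσ using (M1.isFT_iff_generators _).1 (Thick.isFT_of_pullback hi F (M1.isFP_isFT h))
  refine M1.isFP_of_openImmersion_cover (fun x => (U x).ι)
    (fun x => ⟨x, by rw [Scheme.Opens.range_ι]; exact hxU x⟩) fun x => ?_
  haveI := hσ x
  haveI : Epi (σ x).π := (σ x).epi
  exact isFP_of_generated ((RelPCS8.isPullback_open i (U x)).paste_vert hsq) ht
    (RelT.isFlatOver_restrict (U x).ι q' hF) (σ x).π
    (M1.isFP_of_isIso ((KFlat.Sch.pullbackRestrictNatIso i (U x)).app F) (M1.isFP_restrict h _))

end Groth.Agent.ThickFP9
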